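import Mathlib
import Groth.Prelude.Def_W4c2movlemaddchowShuffle

/-!
# Shuffle decompositions (helper5)

An abstract decomposition lemma for shuffles: if `ι : Fin a → Fin N` and `κ : Fin b → Fin N` are
two "blocks" and `ext : Perm (Fin a) → Perm (Fin N)` extends permutations of the block `ι` by the
identity on `κ`, then `(τ, σ) ↦ τ * ext σ` is a bijection from pairs (permutation monotone on `ι`
and `κ`, permutation of `Fin a` monotone on two sub-blocks) onto permutations monotone on the three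
blocks.
-/

set_option autoImplicit false

namespace Groth.Agent.Helper5.Shuffle

open Equiv

variable {a a₁ a₂ b N : ℕ}

theorem bijOn_mul_ext
    (ι : Fin a → Fin N) (κ : Fin b → Fin N) (α₁ : Fin a₁ → Fin a) (α₂ : Fin a₂ → Fin a)
    (hι : Function.Injective ι)
    (ext : Perm (Fin a) → Perm (Fin N))
    (hext_ι : ∀ σ x, ext σ (ι x) = ι (σ x))
    (hext_κ : ∀ σ y, ext σ (κ y) = κ y)
    (hmul : ∀ σ σ', ext (σ * σ') = ext σ * ext σ')
    (hone : ext 1 = 1) :
    Set.BijOn (fun p : Perm (Fin N) × Perm (Fin a) => p.1 * ext p.2)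
      ({τ | Monotone (fun x => τ (ι x)) ∧ Monotone (fun y => τ (κ y))} ×ˢ
        {σ | Monotone (fun i => σ (α₁ i)) ∧ Monotone (fun j => σ (α₂ j))})
      {ν | Monotone (fun i => ν (ι (α₁ i))) ∧ Monotone (fun j => ν (ι (α₂ j))) ∧
        Monotone (fun y => ν (κ y))} := by
  refine ⟨?_, ?_, ?_⟩
  · rintro ⟨τ, σ⟩ ⟨⟨hτ1, hτ2⟩, ⟨hσ1, hσ2⟩⟩
    refine ⟨?_, ?_, ?_⟩
    · intro i i' h
      simp only [Perm.mul_apply, hext_ι]
      exact hτ1 (hσ1 h)
    · intro i i' h
      simp only [Perm.mul_apply, hext_ι]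
      exact hτ1 (hσ2 h)
    · intro y y' h
      simp only [Perm.mul_apply, hext_κ]
      exact hτ2 h
  · rintro ⟨τ, σ⟩ ⟨⟨hτ1, _⟩, _⟩ ⟨τ', σ'⟩ ⟨⟨hτ'1, _⟩, _⟩ heq
    simp only at heq
    -- f = ν ∘ ι
    set f : Fin a → Fin N := fun x => (τ * ext σ) (ι x) with hf
    have hfinj : Function.Injective f := (τ * ext σ).injective.comp hι
    have h1 : Monotone (f ∘ (σ⁻¹ : Perm (Fin a))) := by
      intro x x' h
      simp only [hf, Function.comp_apply, Perm.mul_apply, hext_ι, Equiv.Perm.coe_inv, Equiv.apply_symm_apply]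
      exact hτ1 h
    have h2 : Monotone (f ∘ (σ'⁻¹ : Perm (Fin a))) := by
      intro x x' h
      simp only [hf, heq, Function.comp_apply, Perm.mul_apply, hext_ι, Equiv.Perm.coe_inv, Equiv.apply_symm_apply]
      exact hτ'1 h
    have h3 := Tuple.unique_monotone h1 h2
    have h4 : (σ⁻¹ : Perm (Fin a)) = σ'⁻¹ := by
      ext x
      have := congrFun h3 x
      exact congrArg Fin.val (hfinj this)
    have h5 : σ = σ' := inv_injective h4
    subst h5
    have h6 : τ = τ' := mul_right_cancel heq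
    rw [h6]
  · rintro ν ⟨hν1, hν2, hν3⟩
    set f : Fin a → Fin N := fun x => ν (ι x) with hf
    have hfinj : Function.Injective f := ν.injective.comp hι
    set ρ : Perm (Fin a) := Tuple.sort f with hρ
    have hmono : Monotone (f ∘ ρ) := Tuple.monotone_sort f
    have hstrict : StrictMono (f ∘ ρ) :=
      hmono.strictMono_of_injective (hfinj.comp ρ.injective)
    refine ⟨(ν * ext ρ, ρ⁻¹), ⟨⟨?_, ?_⟩, ⟨?_, ?_⟩⟩, ?_⟩
    · intro x x' h
      simp only [Perm.mul_apply, hext_ι]
      exact hmono h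
    · intro y y' h
      simp only [Perm.mul_apply, hext_κ]
      exact hν3 h
    · intro i i' h
      have : (f ∘ ρ) ((ρ⁻¹ : Perm (Fin a)) (α₁ i)) ≤ (f ∘ ρ) ((ρ⁻¹ : Perm (Fin a)) (α₁ i')) := by
        simp only [Function.comp_apply, Equiv.Perm.coe_inv, Equiv.apply_symm_apply, hf]
        exact hν1 h
      exact hstrict.le_iff_le.1 this
    · intro i i' h
      have : (f ∘ ρ) ((ρ⁻¹ : Perm (Fin a)) (α₂ i)) ≤ (f ∘ ρ) ((ρ⁻¹ : Perm (Fin a)) (α₂ i')) := by
        simp only [Function.comp_apply, Equiv.Perm.coe_inv, Equiv.apply_symm_apply, hf]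
        exact hν2 h
      exact hstrict.le_iff_le.1 this
    · simp only
      rw [mul_assoc, ← hmul, mul_inv_cancel, hone, mul_one]


open W4c2movlemaddchow

theorem extRight_castAdd (a t : ℕ) (σ : Perm (Fin a)) (x : Fin a) :
    extRight a t σ (Fin.castAdd t x) = Fin.castAdd t (σ x) := by
  simp [extRight, Equiv.permCongr_apply]

theorem extRight_natAdd (a t : ℕ) (σ : Perm (Fin a)) (y : Fin t) :
    extRight a t σ (Fin.natAdd a y) = Fin.natAdd a y := by
  simp [extRight, Equiv.permCongr_apply]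

theorem extRight_mul (a t : ℕ) (σ σ' : Perm (Fin a)) :
    extRight a t (σ * σ') = extRight a t σ * extRight a t σ' := by
  ext x
  refine Fin.addCases (fun i => ?_) (fun j => ?_) x
  · rw [Perm.mul_apply, extRight_castAdd, extRight_castAdd, extRight_castAdd, Perm.mul_apply]
  · rw [Perm.mul_apply, extRight_natAdd, extRight_natAdd, extRight_natAdd]

theorem extRight_one (a t : ℕ) : extRight a t (1 : Perm (Fin a)) = 1 := by
  ext x
  refine Fin.addCases (fun i => ?_) (fun j => ?_) x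
  · rw [extRight_castAdd, Perm.one_apply, Perm.one_apply]
  · rw [extRight_natAdd, Perm.one_apply]

theorem sign_extRight (a t : ℕ) (σ : Perm (Fin a)) :
    Perm.sign (extRight a t σ) = Perm.sign σ := by
  simp [extRight]

/-- the embedding of the last `s + t` positions -/
def ιL (r s t : ℕ) (x : Fin (s + t)) : Fin (r + s + t) :=
  (finCongr (Nat.add_assoc r s t)).symm (Fin.natAdd r x)

/-- the embedding of the first `r` positions -/
def κL (r s t : ℕ) (i : Fin r) : Fin (r + s + t) := Fin.castAdd t (Fin.castAdd s i)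

theorem κL_eq (r s t : ℕ) (i : Fin r) :
    κL r s t i = (finCongr (Nat.add_assoc r s t)).symm (Fin.castAdd (s + t) i) := by
  apply Fin.ext
  simp [κL]

theorem ιL_val (r s t : ℕ) (x : Fin (s + t)) : (ιL r s t x : ℕ) = r + x := by
  simp [ιL]

theorem ιL_injective (r s t : ℕ) : Function.Injective (ιL r s t) := by
  intro x y h
  have := congrArg Fin.val h
  rw [ιL_val, ιL_val] at this
  exact Fin.ext (by omega)

theorem extLeft_ιL (r s t : ℕ) (σ : Perm (Fin (s + t))) (x : Fin (s + t)) :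
    extLeft r s t σ (ιL r s t x) = ιL r s t (σ x) := by
  simp [extLeft, ιL, Equiv.permCongr_apply]

theorem extLeft_κL (r s t : ℕ) (σ : Perm (Fin (s + t))) (i : Fin r) :
    extLeft r s t σ (κL r s t i) = κL r s t i := by
  rw [κL_eq]
  simp [extLeft, Equiv.permCongr_apply]

theorem cases_L (r s t : ℕ) (x : Fin (r + s + t)) :
    (∃ i, x = κL r s t i) ∨ (∃ y, x = ιL r s t y) := by
  by_cases h : (x : ℕ) < r
  · left
    exact ⟨⟨x, h⟩, Fin.ext (by simp [κL])⟩
  · right
    refine ⟨⟨x - r, by omega⟩, Fin.ext ?_⟩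
    rw [ιL_val]
    simp only
    omega

theorem extLeft_mul (r s t : ℕ) (σ σ' : Perm (Fin (s + t))) :
    extLeft r s t (σ * σ') = extLeft r s t σ * extLeft r s t σ' := by
  ext x
  rcases cases_L r s t x with ⟨i, rfl⟩ | ⟨y, rfl⟩
  · rw [Perm.mul_apply, extLeft_κL, extLeft_κL, extLeft_κL]
  · rw [Perm.mul_apply, extLeft_ιL, extLeft_ιL, extLeft_ιL, Perm.mul_apply]

theorem extLeft_one (r s t : ℕ) : extLeft r s t (1 : Perm (Fin (s + t))) = 1 := by
  ext x
  rcases cases_L r s t x with ⟨i, rfl⟩ | ⟨y, rfl⟩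
  · rw [extLeft_κL, Perm.one_apply]
  · rw [extLeft_ιL, Perm.one_apply, Perm.one_apply]

theorem sign_extLeft (r s t : ℕ) (σ : Perm (Fin (s + t))) :
    Perm.sign (extLeft r s t σ) = Perm.sign σ := by
  simp [extLeft]

end Groth.Agent.Helper5.Shuffle
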